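import Groth.Agent.SeesawVB.Basic
import Groth.Agent.GenSeesawLib.Glue
import Groth.Agent.DegDevLib.Wedge
import Groth.Agent.InfLiftLib.Smooth
import Groth.Agent.EtAlgEasy.OmegaSmooth2
import Groth.Agent.S2768
import Groth.Agent.AVLib.GeomInt
import Groth.Agent.AmpleEmb.Compose
import Groth.Prelude.Def_ExtPow2

/-!
# Relative canonical modules with trivial powers on the fibres
-/

set_option autoImplicit false
set_option backward.isDefEq.respectTransparency false
set_option backward.defeqAttrib.useBackward true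
set_option linter.style.haveILetI false

universe u

open CategoryTheory CategoryTheory.Limits AlgebraicGeometry TopologicalSpace Opposite
open Groth.Agent.PullbackMod Groth.Agent.DegDevLib Groth.Agent.ParaFLib

noncomputable section

namespace Groth.Agent.SeesawVB

variable {X S : Scheme.{u}} (f : X ⟶ S)

/-- A locally projective morphism is proper. -/
theorem isProper_of_isLocallyProjective (h : RedSub.IsLocallyProjective (Over.mk f)) : IsProper f := by
  choose V hV n e he he' using h
  let 𝒰 := Scheme.openCoverOfIsOpenCover S V (eq_top_iff.2 fun s _ => Opens.mem_iSup.2 ⟨s, hV s⟩)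
  refine IsZariskiLocalAtTarget.of_openCover (P := @IsProper) 𝒰 fun s => ?_
  haveI : IsClosedImmersion (e s) := he s
  show IsProper ((Red.bc (V s).ι (Over.mk f)).hom)
  rw [← he' s]
  infer_instance

/-- A top exterior power of a module with frames of the top size is invertible. -/
theorem isInvertible_of_isExtPow {E L : X.Modules} {n : ℕ} (hL : ExtPow.IsExtPow n E L)
    (hE : ∀ x : X, ∃ (U : X.Opens) (s : Fin n → Γ(E, U)), x ∈ U ∧ IsFrame U s) : PicF.IsInvertible L := by
  obtain ⟨φ, hφ⟩ := hL
  refine AmpleLib.isInvertible_of_gen fun x => ?_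
  obtain ⟨U, s, hxU, hs⟩ := hE x
  obtain ⟨_, ⟨W : X.Opens, hW, rfl⟩, hxW, hWU⟩ :=
    X.isBasis_affineOpens.exists_subset_of_mem_open (a := x) (u := ↑U) hxU U.2
  exact ⟨W, _, hxW, gen_wsec (V := ⟨W, hW⟩) φ hφ (hs.res hWU)⟩

theorem exists_frame_omega (n : ℕ) [SmoothOfRelativeDimension n f] [QuasiSeparated f] (x : X) :
    ∃ (U : X.Opens) (s : Fin n → Γ(Omega.sheaf f, U)), x ∈ U ∧ IsFrame U s := by
  haveI : Smooth f := SmoothOfRelativeDimension.smooth n f
  haveI := (isQCoh_and_isFP_of_isFinLocFree _ (InfLiftLib.isFinLocFree_omega f)).1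
  obtain ⟨U, m, hxU, ⟨i⟩, hdim⟩ :=
    EtAlgEasy.OmegaSmooth.exists_freeMod_omega f (OmegaUnivLib.isUniversal_dOmega f) x
  rw [Groth.Agent.S2768.result n f x] at hdim
  obtain rfl : n = m := by exact_mod_cast hdim
  obtain ⟨V, k, s, hxV, hs⟩ := exists_frame_at (InfLiftLib.isFinLocFree_omega f) x
  obtain rfl : k = n := freeAt_unique _ (freeAt_of_frame hs hxV) (freeAt_of_restrict_iso _ i hxU)
  exact ⟨V, s, hxV, hs⟩

theorem isInvertible_topDiff (n : ℕ) [SmoothOfRelativeDimension n f] [QuasiSeparated f] {ω : X.Modules}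
    (hω : Canon.IsTopDiff f n ω) : PicF.IsInvertible ω :=
  isInvertible_of_isExtPow hω (exists_frame_omega f n)

/-- A generator gives a frame with one element. -/
theorem isFrame_of_gen {L : X.Modules} {U : X.Opens} {s : Γ(L, U)} (hs : Gen U s) :
    IsFrame (E := L) U fun _ : Fin 1 => s := fun y hy => by
  have e : ⇑(Fintype.linearCombination (X.presheaf.stalk y) fun _ : Fin 1 => L.presheaf.germ U y hy s) =
      (fun r : X.presheaf.stalk y => r • L.presheaf.germ U y hy s) ∘ (fun c : Fin 1 → X.presheaf.stalk y => c 0) := by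
    funext c
    simp [Fintype.linearCombination_apply]
  rw [e]
  exact (hs.bijective_germ y hy).comp (Equiv.funUnique (Fin 1) (X.presheaf.stalk y)).bijective

/-- An invertible module with generators near the fibres is generated by its direct image. -/
theorem isIso_counit_of_gen_nhds [IsProper f] [Flat f] [LocallyOfFinitePresentation f] (hf : UnivStein f)
    {L : X.Modules} (hL : PicF.IsInvertible L)
    (h : ∀ y : S, ∃ U : S.Opens, y ∈ U ∧ ∃ s : Γ(L, f ⁻¹ᵁ U), Gen (f ⁻¹ᵁ U) s) :
    IsIso ((Scheme.Modules.pullbackPushforwardAdjunction f).counit.app L) := by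
  haveI : Coh.IsQCoh L := InvExt.isQCoh_of_isInvertible hL
  refine HasFrames.isIso_counit hf fun y => ?_
  obtain ⟨U, hy, s, hs⟩ := h y
  exact ⟨U, 1, _, hy, isFrame_of_gen hs⟩

end Groth.Agent.SeesawVB
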