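import Groth.Agent.DegDevLib.Frame
import Groth.Agent.SplitP1Lib.Frames
import Groth.Agent.PullbackMod.LimFree
import Groth.Agent.PullbackMod.Hom
import Groth.Agent.PicTrivLib.Push
import Groth.Agent.GenBCLib.Deg0

/-!
# Frames: inverse images, open immersions, direct images
-/

set_option autoImplicit false
set_option backward.isDefEq.respectTransparency false
set_option backward.defeqAttrib.useBackward true
set_option linter.style.haveILetI false

universe u

open CategoryTheory CategoryTheory.Limits AlgebraicGeometry TopologicalSpace Opposite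
open Groth.Agent.PullbackMod Groth.Agent.DegDevLib
open scoped TensorProduct

noncomputable section

namespace Groth.Agent.SeesawVB

variable {X X' : Scheme.{u}}

/-- A frame pulls back to a frame. -/
theorem isFrame_pullMap (g : X' ⟶ X) {E : X.Modules} [Coh.IsQCoh E] {n : ℕ} {U : X.Opens}
    {s : Fin n → Γ(E, U)} (hs : IsFrame U s) {U' : X'.Opens} (e : U' ≤ g ⁻¹ᵁ U) :
    IsFrame (E := (Scheme.Modules.pullback g).obj E) U' fun i => pullMap g E e (s i) := by
  classical
  intro y hy
  let R := X.presheaf.stalk (g y)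
  let A := X'.presheaf.stalk y
  let N := ((Scheme.Modules.pullback g).obj E).presheaf.stalk y
  letI : Algebra R A := (g.stalkMap y).hom.toAlgebra
  letI : Module R N := Module.compHom N (g.stalkMap y).hom
  haveI : IsScalarTower R A N := .of_algebraMap_smul fun _ _ => rfl
  have hgy : g y ∈ U := e hy
  let b : Module.Basis (Fin n) R (E.presheaf.stalk (g y)) :=
    Module.Basis.ofEquivFun (LinearEquiv.ofBijective _ (hs (g y) hgy)).symm
  have hb : ∀ i, b i = E.presheaf.germ U (g y) hgy (s i) := fun i => by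
    simp only [b, Module.Basis.coe_ofEquivFun, LinearEquiv.symm_symm, LinearEquiv.ofBijective_apply]
    refine (Fintype.linearCombination_apply R _ _).trans
      ((Finset.sum_eq_single i (fun j _ hj => ?_) fun h => absurd (Finset.mem_univ i) h).trans ?_)
    · rw [Pi.single_eq_of_ne hj, zero_smul]
    · rw [Pi.single_eq_same, one_smul]
  let b' : Module.Basis (Fin n) A N := (b.baseChange A).map (isBaseChange_pullStalkL g E y).equiv
  have hb' : ∀ i, b' i = ((Scheme.Modules.pullback g).obj E).presheaf.germ U' y hy (pullMap g E e (s i)) :=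
    fun i => by
      rw [Module.Basis.map_apply, Module.Basis.baseChange_apply, IsBaseChange.equiv_tmul, one_smul, hb]
      exact pullStalk_germ' g E y hgy hy e (s i)
  have he : ⇑(Fintype.linearCombination A fun i =>
      ((Scheme.Modules.pullback g).obj E).presheaf.germ U' y hy (pullMap g E e (s i))) = ⇑b'.equivFun.symm := by
    funext c
    rw [Fintype.linearCombination_apply, b'.equivFun_symm_apply]
    simp only [hb']
  rw [he]
  exact b'.equivFun.symm.bijective

/-- Frames of a restriction are frames. -/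
theorem isFrame_of_restrict (g : X' ⟶ X) [IsOpenImmersion g] {E : X.Modules} {n : ℕ} {U : X'.Opens}
    (s : Fin n → Γ(E.restrict g, U)) (hs : IsFrame (E := E.restrict g) U s) :
    IsFrame (E := E) (g ''ᵁ U) fun i => (id (s i) : Γ(E, g ''ᵁ U)) := by
  rintro y ⟨z, hz, rfl⟩
  let σr := (asIso (g.stalkMap z)).commRingCatIsoToRingEquiv
  let eS : (E.restrict g).presheaf.stalk z ≃+ E.presheaf.stalk (g z) :=
    ((Scheme.Modules.restrictStalkNatIso g z).app E).addCommGroupIsoToAddEquiv
  have hgerm : ∀ i, eS ((E.restrict g).presheaf.germ U z hz (s i)) =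
      E.presheaf.germ (g ''ᵁ U) (g z) ⟨z, hz, rfl⟩ (id (s i) : Γ(E, g ''ᵁ U)) := fun i =>
    ConcreteCategory.congr_hom (Scheme.Modules.germ_restrictStalkNatIso_hom_app g z E hz) (s i)
  have hsemi : ∀ r, eS (Fintype.linearCombination (X'.presheaf.stalk z)
      (fun i => (E.restrict g).presheaf.germ U z hz (s i)) (fun j => σr (r j))) =
      Fintype.linearCombination (X.presheaf.stalk (g z))
        (fun i => E.presheaf.germ (g ''ᵁ U) (g z) ⟨z, hz, rfl⟩ (id (s i) : Γ(E, g ''ᵁ U))) r := fun r => by
    simp only [Fintype.linearCombination_apply, map_sum]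
    refine Finset.sum_congr rfl fun i _ => ?_
    rw [← hgerm i]
    refine (DCohLib.restrictStalk_smul g E z _ _).trans ?_
    rw [RingEquiv.symm_apply_apply]
    rfl
  have hb : Function.Bijective (eS ∘ Fintype.linearCombination (X'.presheaf.stalk z)
      (fun i => (E.restrict g).presheaf.germ U z hz (s i)) ∘ (Equiv.piCongrRight fun _ => σr.toEquiv)) :=
    eS.bijective.comp ((hs z hz).comp (Equiv.bijective _))
  rw [show (eS ∘ Fintype.linearCombination (X'.presheaf.stalk z)
      (fun i => (E.restrict g).presheaf.germ U z hz (s i)) ∘ (Equiv.piCongrRight fun _ => σr.toEquiv)) = _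
    from funext hsemi] at hb
  exact hb

/-- Frames of an inverse image along an open immersion come from frames. -/
theorem exists_frame_of_openImmersion (g : X' ⟶ X) [IsOpenImmersion g] {E : X.Modules} {n : ℕ}
    {U : X'.Opens} {s : Fin n → Γ((Scheme.Modules.pullback g).obj E, U)}
    (hs : IsFrame (E := (Scheme.Modules.pullback g).obj E) U s) :
    ∃ t : Fin n → Γ(E, g ''ᵁ U), IsFrame (g ''ᵁ U) t :=
  ⟨_, isFrame_of_restrict g _
    (SplitP1Lib.IsFrame.of_iso hs ((Scheme.Modules.restrictFunctorIsoPullback g).app E).symm)⟩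

/-- A finite locally free module has frames. -/
theorem exists_frame_at {E : X.Modules} (hE : FlatMod.IsFinLocFree E) (x : X) :
    ∃ (U : X.Opens) (n : ℕ) (s : Fin n → Γ(E, U)), x ∈ U ∧ IsFrame U s := by
  obtain ⟨U, n, hxU, ⟨e⟩⟩ := hE x
  let σ : Fin n → Γ(E.restrict U.ι, (⊤ : (U : Scheme.{u}).Opens)) := fun i =>
    (Sigma.ι (fun _ : Fin n => Coh.structureModule (U : Scheme.{u})) i ≫ e.inv).app ⊤ (1 : Γ(U, ⊤))
  have hσ : IsFrame (E := E.restrict U.ι) (⊤ : (U : Scheme.{u}).Opens) σ := fun y hy => by
    have hgerm : ∀ i, (E.restrict U.ι).presheaf.germ ⊤ y hy (σ i) =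
        stalkLin e.inv y (stdGerm (X := (U : Scheme.{u})) n y i) := fun i => by
      rw [stdGerm, ← LinearMap.comp_apply, ← stalkLin_comp, ← AmpleLib.secHom_sec (_ ≫ e.inv)]
      exact (CurveLib.stalkLin_secHom _ _).symm
    have h : ⇑(Fintype.linearCombination ((U : Scheme.{u}).presheaf.stalk y)
        fun i => (E.restrict U.ι).presheaf.germ ⊤ y hy (σ i)) = ⇑(stalkLin e.inv y) ∘
        ⇑(Fintype.linearCombination ((U : Scheme.{u}).presheaf.stalk y) (stdGerm (X := (U : Scheme.{u})) n y)) := by
      funext r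
      simp only [Function.comp_apply, Fintype.linearCombination_apply, map_sum, map_smul, hgerm]
    rw [h]
    exact ((isIso_iff_stalk e.inv).1 inferInstance y).comp (stdGerm_bijective n y)
  exact ⟨U.ι ''ᵁ ⊤, n, fun i => σ i, ⟨⟨x, hxU⟩, trivial, rfl⟩, isFrame_of_restrict U.ι σ hσ⟩

theorem freeAt_of_frame {E : X.Modules} {n : ℕ} {U : X.Opens} {s : Fin n → Γ(E, U)} (hs : IsFrame U s)
    {x : X} (hx : x ∈ U) : FreeAt n E x :=
  ⟨(LinearEquiv.ofBijective _ (hs x hx)).symm⟩

/-- A module with global frame is free. -/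
theorem iso_free_of_frame {E : X.Modules} {n : ℕ} {s : Fin n → Γ(E, (⊤ : X.Opens))} (hs : IsFrame ⊤ s) :
    Nonempty (E ≅ FlatMod.freeMod X n) := by
  haveI : IsIso (descS s) := (isIso_iff_stalk _).2 fun x => by
    have h : ⇑(Fintype.linearCombination (X.presheaf.stalk x) fun i => E.presheaf.germ ⊤ x trivial (s i)) =
        ⇑(stalkLin (descS s) x) ∘ ⇑(Fintype.linearCombination (X.presheaf.stalk x) (stdGerm (X := X) n x)) := by
      funext r
      simp only [Function.comp_apply, Fintype.linearCombination_apply, map_sum, map_smul, descS_stdGerm]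
    have hb := hs x trivial
    rw [h] at hb
    exact (Function.Bijective.of_comp_iff _ (stdGerm_bijective n x)).1 hb
  exact ⟨(asIso (descS s)).symm⟩

/-- The free module has a global frame. -/
theorem exists_frame_free (X : Scheme.{u}) (n : ℕ) :
    ∃ s : Fin n → Γ(FlatMod.freeMod X n, (⊤ : X.Opens)), IsFrame ⊤ s :=
  ⟨_, SplitP1Lib.isFrame_sigma (fun _ : Fin n => Coh.structureModule X) (fun _ => (1 : Γ(X, ⊤)))
    fun _ => ParaFLib.gen_one _⟩

/-- Frames detect isomorphisms. -/
theorem bijective_stalkLin_of_frame {E F : X.Modules} (φ : E ⟶ F) {n : ℕ} {U : X.Opens}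
    {s : Fin n → Γ(E, U)} {t : Fin n → Γ(F, U)} (hs : IsFrame U s) (ht : IsFrame U t)
    (h : ∀ i, φ.app U (s i) = t i) {x : X} (hx : x ∈ U) : Function.Bijective (stalkLin φ x) := by
  have e : ⇑(Fintype.linearCombination (X.presheaf.stalk x) fun i => F.presheaf.germ U x hx (t i)) =
      ⇑(stalkLin φ x) ∘ ⇑(Fintype.linearCombination (X.presheaf.stalk x) fun i => E.presheaf.germ U x hx (s i)) := by
    funext r
    simp only [Function.comp_apply, Fintype.linearCombination_apply, map_sum, map_smul, stalkLin_germ, h]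
  have hb := ht x hx
  rw [e] at hb
  exact (Function.Bijective.of_comp_iff _ (hs x hx)).1 hb

variable {S : Scheme.{u}} (f : X ⟶ S)

theorem map_linearCombination {E : X.Modules} {n : ℕ} {O O' : X.Opens} (h : O' ≤ O)
    (f' : Fin n → Γ(E, O)) (r : Fin n → Γ(X, O)) :
    E.presheaf.map (homOfLE h).op (∑ i, r i • f' i) =
      ∑ i, X.presheaf.map (homOfLE h).op (r i) • E.presheaf.map (homOfLE h).op (f' i) := by
  rw [map_sum]
  exact Finset.sum_congr rfl fun i _ => Scheme.Modules.map_smul E (homOfLE h) (r i) (f' i)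

/-- A frame over the preimage of an open pushes forward to a frame, if functions come from below. -/
theorem isFrame_pushforward {E : X.Modules} {n : ℕ} {U : S.Opens} {s : Fin n → Γ(E, f ⁻¹ᵁ U)}
    (hs : IsFrame (f ⁻¹ᵁ U) s) (hU : ∀ V ≤ U, Function.Bijective (f.app V)) :
    IsFrame (E := (Scheme.Modules.pushforward f).obj E) U s := by
  intro y hy
  let P := (Scheme.Modules.pushforward f).obj E
  have key : ∀ (V : S.Opens) (hV : V ≤ U),
      Function.Bijective fun r : Fin n → Γ(S, V) => ∑ i, r i • P.presheaf.map (homOfLE hV).op (s i) := by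
    intro V hV
    have h := (hs.res (f.preimage_mono hV)).bijective
    have e : (fun r : Fin n → Γ(S, V) => ∑ i, r i • P.presheaf.map (homOfLE hV).op (s i)) =
        ⇑(Fintype.linearCombination Γ(X, f ⁻¹ᵁ V)
          fun i => E.presheaf.map (homOfLE (f.preimage_mono hV)).op (s i)) ∘
          ⇑(Equiv.piCongrRight fun _ : Fin n => Equiv.ofBijective _ (hU V hV)) := by
      funext r
      rw [Function.comp_apply, Fintype.linearCombination_apply]
      rfl
    rw [e]
    exact h.comp (Equiv.bijective _)
  have hger : ∀ (V : S.Opens) (hV : V ≤ U) (hyV : y ∈ V) (r : Fin n → Γ(S, V)),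
      P.presheaf.germ V y hyV (∑ i, r i • P.presheaf.map (homOfLE hV).op (s i)) =
        Fintype.linearCombination (S.presheaf.stalk y) (fun i => P.presheaf.germ U y hy (s i))
          (fun i => S.presheaf.germ V y hyV (r i)) := fun V hV hyV r => by
    rw [Fintype.linearCombination_apply, SplitP1Lib.germ_lincomb]
    refine Finset.sum_congr rfl fun i _ => congrArg (S.presheaf.germ V y hyV (r i) • ·) ?_
    exact P.presheaf.germ_res_apply (homOfLE hV) y hyV (s i)
  constructor
  · rw [injective_iff_map_eq_zero]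
    intro a ha
    choose W hW r hr using fun j => TopCat.Presheaf.exists_germ_eq S.presheaf (a j)
    let V : S.Opens := Finset.univ.inf W ⊓ U
    have hyV : y ∈ V := ⟨by
      show y ∈ ((Finset.univ.inf W : S.Opens) : Set S)
      rw [TopologicalSpace.Opens.coe_finset_inf]
      simpa using fun j => hW j, hy⟩
    have hle : ∀ j, V ≤ W j := fun j => inf_le_left.trans (Finset.inf_le (Finset.mem_univ j))
    let r' : Fin n → Γ(S, V) := fun j => S.presheaf.map (homOfLE (hle j)).op (r j)
    have hr' : ∀ j, S.presheaf.germ V y hyV (r' j) = a j := fun j =>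
      (S.presheaf.germ_res_apply _ _ _ _).trans (hr j)
    have h0 : P.presheaf.germ V y hyV (∑ i, r' i • P.presheaf.map (homOfLE (inf_le_right : V ≤ U)).op (s i)) =
        P.presheaf.germ V y hyV 0 := by
      rw [hger, map_zero, funext hr']
      exact ha
    obtain ⟨V', hyV', i₁, i₂, e⟩ := TopCat.Presheaf.germ_eq P.presheaf y hyV hyV _ _ h0
    rw [show i₁ = homOfLE i₁.le from rfl, show i₂ = homOfLE i₂.le from rfl, map_zero,
      map_linearCombination i₁.le] at e
    have h1 := (key V' (i₁.le.trans inf_le_right)).1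
      (a₁ := fun i => S.presheaf.map (homOfLE i₁.le).op (r' i)) (a₂ := 0) (by
        refine Eq.trans ?_ (e.trans (by simp))
        refine Finset.sum_congr rfl fun i _ => congrArg (S.presheaf.map (homOfLE i₁.le).op (r' i) • ·) ?_
        rw [← ConcreteCategory.comp_apply, ← Functor.map_comp]
        rfl)
    funext j
    rw [← hr' j, ← S.presheaf.germ_res_apply (homOfLE i₁.le) y hyV' (r' j)]
    exact (congrArg (S.presheaf.germ V' y hyV') (congrFun h1 j)).trans (map_zero _)
  · intro z
    obtain ⟨W, hyW, z, rfl⟩ := TopCat.Presheaf.exists_germ_eq P.presheaf z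
    obtain ⟨r, hr⟩ := (key (W ⊓ U) inf_le_right).2 (P.presheaf.map (homOfLE inf_le_left).op z)
    refine ⟨fun i => S.presheaf.germ (W ⊓ U) y ⟨hyW, hy⟩ (r i), ?_⟩
    rw [← hger (W ⊓ U) inf_le_right ⟨hyW, hy⟩ r]
    exact (congrArg (P.presheaf.germ (W ⊓ U) y ⟨hyW, hy⟩) hr).trans (P.presheaf.germ_res_apply _ _ _ _)

end Groth.Agent.SeesawVB
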