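import Groth.Agent.SeesawVB.Main
import Groth.Agent.PullbackMod.Descent

/-!
# Evaluation isomorphisms: descent and base change
-/

set_option autoImplicit false
set_option backward.isDefEq.respectTransparency false
set_option backward.defeqAttrib.useBackward true
set_option linter.style.haveILetI false

universe u

open CategoryTheory CategoryTheory.Limits AlgebraicGeometry TopologicalSpace Opposite
open Groth.Agent.PullbackMod Groth.Agent.DegDevLib

noncomputable section

namespace Groth.Agent.SeesawVB

variable {X S : Scheme.{u}} (f : X ⟶ S)

/-- Locally free modules of the base are the direct images of their inverse images. -/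
theorem isIso_unit (hf : ∀ U : S.Opens, Function.Bijective (f.app U)) {P : S.Modules}
    (hP : FlatMod.IsFinLocFree P) :
    IsIso ((Scheme.Modules.pullbackPushforwardAdjunction f).unit.app P) := by
  haveI := (isQCoh_and_isFP_of_isFinLocFree P hP).1
  refine (isIso_iff_stalk _).2 fun s => ?_
  obtain ⟨U, n, σ, hs, hσ⟩ := exists_frame_at hP s
  refine bijective_stalkLin_of_frame _ hσ
    (isFrame_pushforward f (isFrame_pullMap f hσ (U' := f ⁻¹ᵁ U) le_rfl) fun V _ => hf V) (fun i => ?_) hs
  simp [pullMap]

/-- If the evaluation map is an isomorphism the direct image is locally free and gives frames. -/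
theorem hasFrames_of_isIso_counit [IsProper f] [Flat f] [LocallyOfFinitePresentation f] [Surjective f]
    {L : X.Modules} (hL : FlatMod.IsFinLocFree L)
    (h : IsIso ((Scheme.Modules.pullbackPushforwardAdjunction f).counit.app L)) :
    FlatMod.IsFinLocFree ((Scheme.Modules.pushforward f).obj L) ∧ HasFrames f L := by
  haveI := (isQCoh_and_isFP_of_isFinLocFree L hL).1
  haveI : Coh.IsQCoh ((Scheme.Modules.pushforward f).obj L) := QCohLib.isQCoh_pushforward L f
  let e := asIso ((Scheme.Modules.pullbackPushforwardAdjunction f).counit.app L)
  have hP : FlatMod.IsFinLocFree ((Scheme.Modules.pushforward f).obj L) :=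
    isFinLocFree_descent f _ (fun W hW => hasAffineLift_of_isOpenMap f f.isOpenMap hW)
      (DCohLib.isFinLocFree_iso e.symm hL)
  exact ⟨hP, (hasFrames_pullback f hP).of_iso e⟩

/-- Transposes of isomorphisms out of inverse images of locally free modules are isomorphisms. -/
theorem isIso_homEquiv (hf : ∀ U : S.Opens, Function.Bijective (f.app U)) {P : S.Modules}
    (hP : FlatMod.IsFinLocFree P) {G : X.Modules} (φ : (Scheme.Modules.pullback f).obj P ⟶ G) [IsIso φ] :
    IsIso (((Scheme.Modules.pullbackPushforwardAdjunction f).homEquiv _ _) φ) := by
  haveI := isIso_unit f hf hP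
  rw [Adjunction.homEquiv_unit]
  infer_instance

end Groth.Agent.SeesawVB
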