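import Groth.Agent.SeesawVB.Stratum

/-!
# The seesaw subscheme of a locally free module
-/

set_option autoImplicit false
set_option backward.isDefEq.respectTransparency false
set_option backward.defeqAttrib.useBackward true
set_option linter.style.haveILetI false

universe u

open CategoryTheory CategoryTheory.Limits AlgebraicGeometry TopologicalSpace Opposite
open Groth.Agent.PullbackMod Groth.Agent.DegDevLib

noncomputable section

namespace Groth.Agent.SeesawVB

/-- Properties stable under base change cancel monomorphisms on the right. -/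
theorem of_comp_mono (P : MorphismProperty Scheme.{u}) [P.IsStableUnderBaseChange] {A B C : Scheme.{u}}
    (g : A ⟶ B) (i : B ⟶ C) [Mono i] (h : P (g ≫ i)) : P g := by
  refine MorphismProperty.of_isPullback (P := P) (f' := 𝟙 A) (f := i) (g := g ≫ i)
    ⟨⟨Category.id_comp _⟩, ⟨PullbackCone.IsLimit.mk _ (fun s => s.fst) (fun s => Category.comp_id _)
      (fun s => ?_) (fun s m h1 _ => ?_)⟩⟩ h
  · rw [← cancel_mono i, Category.assoc]; exact s.condition
  · rw [← h1, Category.comp_id]

variable {X S : Scheme.{u}} (f : X ⟶ S) [IsProper f] [Flat f] [LocallyOfFinitePresentation f]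
  (hf : UnivStein f) {E : X.Modules} (hE : FlatMod.IsFinLocFree E)

omit [IsProper f] [Flat f] [LocallyOfFinitePresentation f] in
include hf hE in
theorem rank_eq_on_fibre {n m : ℕ} {x y : X} (e : f x = f y) (hx : FreeAt n E x) (hy : FreeAt m E y) :
    n = m := by
  haveI := (isQCoh_and_isFP_of_isFinLocFree E hE).1
  have hfp := (isQCoh_and_isFP_of_isFinLocFree E hE).2
  choose r hr using (isFinLocFree_iff_freeAt E hfp).1 hE
  have hloc : IsLocallyConstant r := IsLocallyConstant.iff_eventually_eq _ |>.2 fun z =>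
    Filter.mem_of_superset ((isOpen_freeAt E hfp (r z)).mem_nhds (hr z))
      fun w hw => freeAt_unique E (hr w) hw
  have h := hloc.apply_eq_of_isPreconnected (hf.isPreconnected_preimage (f x))
    (x := x) (y := y) rfl e.symm
  rw [freeAt_unique E hx (hr x), freeAt_unique E hy (hr y), h]

include hf hE in
theorem exists_seesaw :
    ∃ (Z : Scheme.{u}) (ι : Z ⟶ S), IsImmersion ι ∧ LocallyOfFinitePresentation ι ∧ QuasiCompact ι ∧
      HF f E ι ∧ ∀ (T : Scheme.{u}) (u : T ⟶ S), HF f E u → ∃ u' : T ⟶ Z, u' ≫ ι = u := by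
  haveI := (isQCoh_and_isFP_of_isFinLocFree E hE).1
  haveI := hf.surjective
  have hfp := (isQCoh_and_isFP_of_isFinLocFree E hE).2
  choose Z ι hi hl hq hHF hrk huniv using fun n : ULift.{u} ℕ => exists_stratum_rank (f := f) hE hf n.down
  let Sn : ULift.{u} ℕ → S.Opens := fun n =>
    ⟨f '' {x | FreeAt n.down E x}, f.isOpenMap _ (isOpen_freeAt E hfp n.down)⟩
  have hcov : iSup Sn = ⊤ := by
    refine eq_top_iff.2 fun s _ => Opens.mem_iSup.2 ?_
    obtain ⟨x, rfl⟩ := f.surjective s
    obtain ⟨n, hn⟩ := (isFinLocFree_iff_freeAt E hfp).1 hE x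
    exact ⟨⟨n⟩, x, hn, rfl⟩
  have hdisj : ∀ (n : ULift.{u} ℕ) (x : X), f x ∈ Sn n → FreeAt n.down E x := fun n x ⟨y, hy, e⟩ => by
    obtain ⟨m, hm⟩ := (isFinLocFree_iff_freeAt E hfp).1 hE x
    obtain rfl := rank_eq_on_fibre f hf hE e hy hm
    exact hm
  let ιS := Sigma.desc ι
  have hmem : ∀ (n : ULift.{u} ℕ) (w : Z n), ι n w ∈ Sn n := fun n w => by
    obtain ⟨x, hx⟩ := f.surjective (ι n w)
    exact ⟨x, hrk n w x hx, hx⟩
  have hpre : ∀ n, Set.range (Sigma.ι Z n) = Set.range (ιS ⁻¹ᵁ Sn n).ι := fun n => by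
    rw [Scheme.Opens.range_ι]
    ext z
    constructor
    · rintro ⟨w, rfl⟩
      show ιS (Sigma.ι Z n w) ∈ Sn n
      rw [← Scheme.Hom.comp_apply, Sigma.ι_desc]
      exact hmem n w
    · intro hz
      obtain ⟨m, w, rfl⟩ := (sigmaOpenCover Z).exists_eq z
      have hz' : ι m w ∈ Sn n := by
        rw [← Sigma.ι_desc ι m, Scheme.Hom.comp_apply]
        exact hz
      obtain ⟨x, hx⟩ := f.surjective (ι m w)
      obtain rfl : n = m := ULift.ext _ _
        (freeAt_unique E (hdisj n x (hx ▸ hz')) (hrk m w x hx))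
      exact ⟨w, rfl⟩
  have hP : ∀ (P : MorphismProperty Scheme.{u}) [P.IsStableUnderBaseChange] [IsZariskiLocalAtTarget P],
      (∀ n, P (ι n)) → P ιS := by
    intro P _ _ hp
    refine IsZariskiLocalAtTarget.of_iSup_eq_top Sn hcov fun n => ?_
    let e := IsOpenImmersion.isoOfRangeEq (Sigma.ι Z n) (ιS ⁻¹ᵁ Sn n).ι (hpre n)
    refine (P.cancel_left_of_respectsIso e.hom _).1 (of_comp_mono P _ (Sn n).ι ?_)
    rw [Category.assoc, morphismRestrict_ι, ← Category.assoc, IsOpenImmersion.isoOfRangeEq_hom_fac,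
      Sigma.ι_desc]
    exact hp n
  refine ⟨∐ Z, ιS, hP @IsImmersion hi, hP @LocallyOfFinitePresentation hl, hP @QuasiCompact hq, ?_,
    fun T u hu => ?_⟩
  · refine hf_of_cover _ fun z => ?_
    obtain ⟨n, w, rfl⟩ := (sigmaOpenCover Z).exists_eq z
    refine ⟨(Sigma.ι Z n).opensRange, ⟨w, rfl⟩, ?_⟩
    refine (hHF n).comp (Sigma.ι Z n).isoOpensRange.inv _ ?_
    rw [← Sigma.ι_desc ι n, ← Category.assoc]
    congr 1
    exact (Sigma.ι Z n).isoOpensRange_inv_comp
  · choose u' hu' using fun n => huniv n (u ⁻¹ᵁ Sn n).toScheme ((u ⁻¹ᵁ Sn n).ι ≫ u)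
      (hu.comp _ _ rfl) (fun x hx => hdisj n x (by
        obtain ⟨t, ht⟩ := hx
        rw [← ht, Scheme.Hom.comp_apply]
        exact t.2))
    have hcov' : iSup (fun n => u ⁻¹ᵁ Sn n) = ⊤ := by
      rw [← Scheme.Hom.preimage_iSup, hcov, Scheme.Hom.preimage_top]
    let 𝒰 := Scheme.openCoverOfIsOpenCover T (fun n => u ⁻¹ᵁ Sn n) hcov'
    haveI : Mono ιS := by haveI := hP @IsImmersion hi; infer_instance
    refine ⟨𝒰.glueMorphisms (fun n => u' n ≫ Sigma.ι Z n) fun a b => ?_, 𝒰.hom_ext _ _ fun n => ?_⟩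
    · rw [← cancel_mono ιS]
      simp only [Category.assoc]
      erw [Sigma.ι_desc, Sigma.ι_desc, hu', hu']
      exact (Category.assoc _ _ _).symm.trans ((congrArg (· ≫ u) (pullback.condition (f := 𝒰.f a) (g := 𝒰.f b))).trans (Category.assoc _ _ _))
    · rw [𝒰.ι_glueMorphisms_assoc, Category.assoc, Sigma.ι_desc, hu']
      rfl

variable {f}

include hf hE in
/-- A morphism satisfies the condition exactly when the module comes from a locally free module. -/
theorem hf_iff {T : Scheme.{u}} (u : T ⟶ S) :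
    HF f E u ↔ ∃ M : T.Modules, FlatMod.IsFinLocFree M ∧
      Nonempty ((Scheme.Modules.pullback (pullback.fst f u)).obj E ≅
        (Scheme.Modules.pullback (pullback.snd f u)).obj M) := by
  haveI := (isQCoh_and_isFP_of_isFinLocFree E hE).1
  haveI := isQCoh_pullback (pullback.fst f u) E
  refine ⟨fun h => ⟨_, HasFrames.isFinLocFree_push (hf.of_isPullback (IsPullback.of_hasPullback f u)) h, ?_⟩, fun ⟨M, hM, ⟨e⟩⟩ =>
    (hasFrames_pullback _ hM).of_iso e.symm⟩
  haveI := HasFrames.isIso_counit (hf.of_isPullback (IsPullback.of_hasPullback f u)) h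
  exact ⟨(asIso ((Scheme.Modules.pullbackPushforwardAdjunction (pullback.snd f u)).counit.app _)).symm⟩

omit [IsProper f] [Flat f] [LocallyOfFinitePresentation f] in
/-- The condition at a point is freeness on the fibre. -/
theorem hf_point_iff (s : S) :
    HF f E (S.fromSpecResidueField s) ↔
      ∃ n : ℕ, Nonempty ((Scheme.Modules.pullback (f.fiberι s)).obj E ≅ FlatMod.freeMod (f.fiber s) n) := by
  constructor
  · intro h
    obtain ⟨U, n, σ, hU, hσ⟩ := h (IsLocalRing.closedPoint (S.residueField s))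
    exact ⟨n, iso_free_of_frame (hσ.res (V := ⊤) fun z _ => show f.fiberToSpecResidueField s z ∈ U by
      rw [Subsingleton.elim (f.fiberToSpecResidueField s z) (IsLocalRing.closedPoint (S.residueField s))]
      exact hU)⟩
  · rintro ⟨n, ⟨e⟩⟩ t
    obtain ⟨σ, hσ⟩ := exists_frame_free (f.fiber s) n
    exact ⟨⊤, n, _, trivial, SplitP1Lib.IsFrame.of_iso hσ e.symm⟩

end Groth.Agent.SeesawVB
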