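import Groth.Agent.SeesawVB.Frames
import Groth.Agent.GenBCLib.SteinUnit
import Groth.Agent.PicTrivLib.Const
import Groth.Agent.CurveFF.BC

/-!
# Modules with frames over preimages: direct image, counit and base change
-/

set_option autoImplicit false
set_option backward.isDefEq.respectTransparency false
set_option backward.defeqAttrib.useBackward true
set_option linter.style.haveILetI false

universe u

open CategoryTheory CategoryTheory.Limits AlgebraicGeometry TopologicalSpace Opposite
open Groth.Agent.PullbackMod Groth.Agent.DegDevLib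

noncomputable section

namespace Groth.Agent.SeesawVB

variable {X S X' S' : Scheme.{u}} {f : X ⟶ S} {f' : X' ⟶ S'} {g : S' ⟶ S} {g' : X' ⟶ X}

/-- Every point of the base has a neighbourhood over whose preimage the module has a frame. -/
def HasFrames (f : X ⟶ S) (E : X.Modules) : Prop :=
  ∀ s : S, ∃ (U : S.Opens) (n : ℕ) (σ : Fin n → Γ(E, f ⁻¹ᵁ U)), s ∈ U ∧ IsFrame (f ⁻¹ᵁ U) σ

theorem HasFrames.of_iso {E E' : X.Modules} (h : HasFrames f E) (e : E ≅ E') : HasFrames f E' := fun s => by
  obtain ⟨U, n, σ, hs, hσ⟩ := h s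
  exact ⟨U, n, fun i => e.hom.app _ (σ i), hs, SplitP1Lib.IsFrame.of_iso hσ e⟩

theorem hasFrames_pullback (f : X ⟶ S) {M : S.Modules} (hM : FlatMod.IsFinLocFree M) :
    HasFrames f ((Scheme.Modules.pullback f).obj M) := fun s => by
  haveI := (isQCoh_and_isFP_of_isFinLocFree M hM).1
  obtain ⟨U, n, σ, hs, hσ⟩ := exists_frame_at hM s
  exact ⟨U, n, _, hs, isFrame_pullMap f hσ le_rfl⟩

theorem HasFrames.baseChange {E : X.Modules} [Coh.IsQCoh E] (h : HasFrames f E)
    (w : g' ≫ f = f' ≫ g) : HasFrames f' ((Scheme.Modules.pullback g').obj E) := fun s => by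
  obtain ⟨U, n, σ, hs, hσ⟩ := h (g s)
  exact ⟨g ⁻¹ᵁ U, n, _, hs, isFrame_pullMap g' hσ (CohCmp.sqLE f g f' g' w U)⟩

/-- After every base change, functions on the source come from the base. -/
def UnivStein (f : X ⟶ S) : Prop :=
  ∀ ⦃X' S' : Scheme.{u}⦄ (g' : X' ⟶ X) (f' : X' ⟶ S') (g : S' ⟶ S), IsPullback g' f' f g →
    ∀ U : S'.Opens, Function.Bijective (f'.app U)

/-- Proper flat morphisms with geometrically connected and reduced fibres are universally Stein. -/
theorem univStein_of_geometric (f : X ⟶ S) [IsProper f] [Flat f] [LocallyOfFinitePresentation f]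
    [GeometricallyConnected f] [GeometricallyReduced f] : UnivStein f := fun X' S' g' f' g sq U => by
  haveI : IsProper f' := MorphismProperty.of_isPullback (P := @IsProper) sq inferInstance
  haveI : Flat f' := MorphismProperty.of_isPullback (P := @Flat) sq inferInstance
  haveI : LocallyOfFinitePresentation f' :=
    MorphismProperty.of_isPullback (P := @LocallyOfFinitePresentation) sq inferInstance
  haveI : GeometricallyConnected f' :=
    MorphismProperty.of_isPullback (P := @GeometricallyConnected) sq inferInstance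
  haveI : GeometricallyReduced f' :=
    MorphismProperty.of_isPullback (P := @GeometricallyReduced) sq inferInstance
  exact GenBCLib.bijective_app (PicTrivLib.bijective_fiber f') U

/-- It suffices to check the chosen fibre products. -/
theorem univStein_of_pullback (f : X ⟶ S)
    (h : ∀ (T : Scheme.{u}) (t : T ⟶ S) (U : T.Opens), IsIso ((pullback.snd f t).app U)) : UnivStein f := by
  intro X' S' g' f' g sq U
  haveI := h S' g U
  have e : f' = sq.isoPullback.hom ≫ pullback.snd f g := (sq.isoPullback_hom_snd).symm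
  rw [e, Scheme.Hom.comp_app]
  exact ConcreteCategory.bijective_of_isIso _

theorem UnivStein.of_isPullback (hf : UnivStein f) (sq : IsPullback g' f' f g) : UnivStein f' :=
  fun _ _ _ _ _ h => hf _ _ _ (h.paste_horiz sq)

theorem UnivStein.bijective_app (hf : UnivStein f) (U : S.Opens) : Function.Bijective (f.app U) :=
  hf (𝟙 X) f (𝟙 S) (IsPullback.of_horiz_isIso ⟨by simp⟩) U

theorem UnivStein.connectedSpace_fiber (hf : UnivStein f) (s : S) : ConnectedSpace (f.fiber s) := by
  have hb := hf (f.fiberι s) (f.fiberToSpecResidueField s) (S.fromSpecResidueField s)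
    (IsPullback.of_hasPullback f (S.fromSpecResidueField s)) ⊤
  refine CurveFF.connectedSpace_of_isField ?_
  have h0 : IsField Γ(Spec (S.residueField s), ⊤) :=
    MulEquiv.isField (Field.toIsField (S.residueField s))
      (Scheme.ΓSpecIso (S.residueField s)).commRingCatIsoToRingEquiv.toMulEquiv
  exact MulEquiv.isField h0 (RingEquiv.ofBijective ((f.fiberToSpecResidueField s).app ⊤).hom hb).symm.toMulEquiv

theorem UnivStein.surjective (hf : UnivStein f) : Surjective f := ⟨fun s => by
  haveI := hf.connectedSpace_fiber s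
  obtain ⟨z⟩ := (inferInstance : Nonempty (f.fiber s))
  have h : f.fiberι s z ∈ Set.range (f.fiberι s) := ⟨z, rfl⟩
  rw [f.range_fiberι s] at h
  exact ⟨_, h⟩⟩

theorem UnivStein.isPreconnected_preimage (hf : UnivStein f) (s : S) :
    _root_.IsPreconnected (f ⁻¹' {s}) := by
  haveI := hf.connectedSpace_fiber s
  rw [← f.range_fiberι s]
  exact isPreconnected_range (f.fiberι s).continuous

variable [IsProper f] [Flat f] [LocallyOfFinitePresentation f] (hf : UnivStein f)

include hf in
theorem HasFrames.exists_push_frame {E : X.Modules} (h : HasFrames f E) (s : S) :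
    ∃ (U : S.Opens) (n : ℕ) (σ : Fin n → Γ(E, f ⁻¹ᵁ U)), s ∈ U ∧ IsFrame (f ⁻¹ᵁ U) σ ∧
      IsFrame (E := (Scheme.Modules.pushforward f).obj E) U σ := by
  obtain ⟨U, n, σ, hs, hσ⟩ := h s
  exact ⟨U, n, σ, hs, hσ, isFrame_pushforward f hσ fun V _ => hf.bijective_app V⟩

include hf in
theorem HasFrames.isFinLocFree_push {E : X.Modules} [Coh.IsQCoh E] (h : HasFrames f E) :
    FlatMod.IsFinLocFree ((Scheme.Modules.pushforward f).obj E) := fun s => by
  haveI : Coh.IsQCoh ((Scheme.Modules.pushforward f).obj E) := QCohLib.isQCoh_pushforward E f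
  obtain ⟨U, n, σ, hs, -, hσ⟩ := h.exists_push_frame hf s
  obtain ⟨e⟩ := iso_free_of_frame (isFrame_pullMap U.ι hσ (U' := ⊤) (U.ι_preimage_self.ge))
  exact ⟨U, n, hs, ⟨(Scheme.Modules.restrictFunctorIsoPullback U.ι).app _ ≪≫ e⟩⟩

include hf in
theorem HasFrames.isIso_counit {E : X.Modules} [Coh.IsQCoh E] (h : HasFrames f E) :
    IsIso ((Scheme.Modules.pullbackPushforwardAdjunction f).counit.app E) := by
  haveI : Coh.IsQCoh ((Scheme.Modules.pushforward f).obj E) := QCohLib.isQCoh_pushforward E f
  refine (isIso_iff_stalk _).2 fun x => ?_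
  obtain ⟨U, n, σ, hs, hσ, hσ'⟩ := h.exists_push_frame hf (f x)
  refine bijective_stalkLin_of_frame _ (isFrame_pullMap f hσ' (U' := f ⁻¹ᵁ U) le_rfl) hσ (fun i => ?_) hs
  refine (PicTrivLib.counit_pullMap f (σ i) le_rfl).trans ?_
  simp

include hf in
theorem HasFrames.isIso_bc0 {E : X.Modules} [Coh.IsQCoh E] (h : HasFrames f E)
    (sq : IsPullback g' f' f g) : IsIso (CohBC.bc0 f g f' g' sq.w E) := by
  haveI : IsProper f' := MorphismProperty.of_isPullback (P := @IsProper) sq inferInstance
  haveI : Coh.IsQCoh ((Scheme.Modules.pushforward f).obj E) := QCohLib.isQCoh_pushforward E f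
  refine (isIso_iff_stalk _).2 fun t => ?_
  obtain ⟨U, n, σ, hs, hσ, hσ'⟩ := h.exists_push_frame hf (g t)
  have le := CohCmp.sqLE f g f' g' sq.w U
  exact bijective_stalkLin_of_frame _ (isFrame_pullMap g hσ' (U' := g ⁻¹ᵁ U) le_rfl)
    (isFrame_pushforward f' (isFrame_pullMap g' hσ le) fun V _ => (hf.of_isPullback sq).bijective_app V)
    (fun i => GenBCLib.bc0_pullMap sq.w E le_rfl le (σ i)) hs

end Groth.Agent.SeesawVB
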