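import Groth.Agent.SeesawVB.Basic
import Groth.Agent.GenBCLib.RankGoal
import Groth.Agent.FlatIsoLocus.Main

/-!
# The stratum where a locally free module of rank `n` comes from the base
-/

set_option autoImplicit false
set_option backward.isDefEq.respectTransparency false
set_option backward.defeqAttrib.useBackward true
set_option linter.style.haveILetI false

universe u

open CategoryTheory CategoryTheory.Limits AlgebraicGeometry TopologicalSpace Opposite
open Groth.Agent.PullbackMod Groth.Agent.DegDevLib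

noncomputable section

namespace Groth.Agent.SeesawVB

variable {X S : Scheme.{u}}

theorem isFrame_congr {E : X.Modules} {n : ℕ} {U : X.Opens} {σ τ : Fin n → Γ(E, U)} (h : IsFrame U σ)
    (e : ∀ i, σ i = τ i) : IsFrame U τ := (funext e : σ = τ) ▸ h

/-- Frames pass along a map of squares. -/
theorem HasFrames.transfer {E : X.Modules} [Coh.IsQCoh E] {T T' XT XT' : Scheme.{u}} {fT : XT ⟶ T}
    {gT : XT ⟶ X} {fT' : XT' ⟶ T'} {gT' : XT' ⟶ X} {v : T' ⟶ T}
    (h : HasFrames fT ((Scheme.Modules.pullback gT).obj E)) (k : XT' ⟶ XT) (hk : k ≫ gT = gT')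
    (hk' : k ≫ fT = fT' ≫ v) : HasFrames fT' ((Scheme.Modules.pullback gT').obj E) := by
  haveI := isQCoh_pullback gT E
  exact (h.baseChange hk').of_iso
    ((Scheme.Modules.pullbackComp k gT ≪≫ Scheme.Modules.pullbackCongr hk).app E)

/-- The module has frames over preimages after the base change `u`. -/
def HF (f : X ⟶ S) (E : X.Modules) {T : Scheme.{u}} (u : T ⟶ S) : Prop :=
  HasFrames (pullback.snd f u) ((Scheme.Modules.pullback (pullback.fst f u)).obj E)

variable {f : X ⟶ S} {E : X.Modules} [Coh.IsQCoh E]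

theorem HF.comp {T T' : Scheme.{u}} {u : T ⟶ S} (h : HF f E u) (v : T' ⟶ T) (u' : T' ⟶ S)
    (e : v ≫ u = u') : HF f E u' :=
  h.transfer (v := v)
    (pullback.lift (pullback.fst f u') (pullback.snd f u' ≫ v)
      (by rw [pullback.condition, Category.assoc, e]))
    (pullback.lift_fst _ _ _) (pullback.lift_snd _ _ _)

omit [Coh.IsQCoh E] in
/-- The property is local on the base. -/
theorem hf_of_cover {T : Scheme.{u}} (u : T ⟶ S)
    (h : ∀ t : T, ∃ O : T.Opens, t ∈ O ∧ HF f E (O.ι ≫ u)) : HF f E u := by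
  intro t
  obtain ⟨O, htO, hO⟩ := h t
  let k : pullback f (O.ι ≫ u) ⟶ pullback f u := pullback.lift (pullback.fst f (O.ι ≫ u))
    (pullback.snd f (O.ι ≫ u) ≫ O.ι) (by rw [pullback.condition, Category.assoc])
  have sq : IsPullback k (pullback.snd f (O.ι ≫ u)) (pullback.snd f u) O.ι := by
    refine IsPullback.of_right ?_ (pullback.lift_snd _ _ _) (IsPullback.of_hasPullback f u)
    rw [show k ≫ pullback.fst f u = pullback.fst f (O.ι ≫ u) from pullback.lift_fst _ _ _]
    exact IsPullback.of_hasPullback f (O.ι ≫ u)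
  haveI : IsOpenImmersion k :=
    MorphismProperty.of_isPullback (P := @IsOpenImmersion) sq.flip inferInstance
  obtain ⟨U, n, σ, hU, hσ⟩ := hO ⟨t, htO⟩
  obtain ⟨τ, hτ⟩ := exists_frame_of_openImmersion k (SplitP1Lib.IsFrame.of_iso hσ
    (((Scheme.Modules.pullbackCongr (pullback.lift_fst _ _ _ : k ≫ pullback.fst f u = _).symm) ≪≫
      (Scheme.Modules.pullbackComp k (pullback.fst f u)).symm).app E))
  have le : pullback.snd f u ⁻¹ᵁ (O.ι ''ᵁ U) ≤ k ''ᵁ (pullback.snd f (O.ι ≫ u) ⁻¹ᵁ U) := by
    rintro z ⟨w, hw, e⟩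
    obtain ⟨p, hp, hp'⟩ := Scheme.exists_preimage_of_isPullback sq z w e.symm
    exact ⟨p, show pullback.snd f (O.ι ≫ u) p ∈ U by rw [hp']; exact hw, hp⟩
  exact ⟨O.ι ''ᵁ U, n, _, ⟨⟨t, htO⟩, hU, rfl⟩, hτ.res le⟩

variable (hE : FlatMod.IsFinLocFree E)

include hE in
theorem freeAt_eq_of_frame {T : Scheme.{u}} (u : T ⟶ S) {n : ℕ} {O : (pullback f u).Opens}
    {σ : Fin n → Γ((Scheme.Modules.pullback (pullback.fst f u)).obj E, O)} (hσ : IsFrame O σ)
    {z : ↥(pullback f u)} (hz : z ∈ O) : FreeAt n E (pullback.fst f u z) := by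
  obtain ⟨V, m, τ, hV, hτ⟩ := exists_frame_at hE (pullback.fst f u z)
  obtain rfl : n = m := freeAt_unique _ (freeAt_of_frame hσ hz)
    (freeAt_of_frame (isFrame_pullMap (pullback.fst f u) hτ (U' := pullback.fst f u ⁻¹ᵁ V) le_rfl) hV)
  exact freeAt_of_frame hτ hV

variable [IsProper f] [Flat f] [LocallyOfFinitePresentation f] (hf : UnivStein f)

include hE hf in
/-- The stratum of rank `n`. -/
theorem exists_stratum_rank (n : ℕ) :
    ∃ (Z : Scheme.{u}) (ι : Z ⟶ S), IsImmersion ι ∧ LocallyOfFinitePresentation ι ∧ QuasiCompact ι ∧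
      HF f E ι ∧ (∀ z : Z, ∀ x : X, f x = ι z → FreeAt n E x) ∧
      ∀ (T : Scheme.{u}) (u : T ⟶ S), HF f E u → (∀ x : X, f x ∈ Set.range u → FreeAt n E x) →
        ∃ u' : T ⟶ Z, u' ≫ ι = u := by
  have hfp := (isQCoh_and_isFP_of_isFinLocFree E hE).2
  have hfl := TildePerf.isFlatOver_of_isFinLocFree f hE
  haveI := hf.surjective
  obtain ⟨W, w, hw, hw', hw'', huniv⟩ := GenBCLib.exists_stratum n hfp hfl
  let fW := pullback.snd f w
  let gW := pullback.fst f w
  let E' := (Scheme.Modules.pullback gW).obj E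
  haveI : Coh.IsQCoh E' := isQCoh_pullback gW E
  have goal := fun (T : Scheme.{u}) (u : T ⟶ S) =>
    (huniv T u).trans (GenBCLib.allGood_iff_goal hfp hfl n (IsPullback.of_hasPullback f u))
  obtain ⟨hP, hbcW⟩ := (goal W w).1 ⟨𝟙 _, Category.id_comp _⟩
  let P := (Scheme.Modules.pushforward fW).obj E'
  have hPlf : FlatMod.IsFinLocFree P := fun s => by
    obtain ⟨U, hs, hU⟩ := hP s
    exact ⟨U, n, hs, hU⟩
  haveI : Coh.IsQCoh P := (isQCoh_and_isFP_of_isFinLocFree P hPlf).1
  let c := (Scheme.Modules.pullbackPushforwardAdjunction fW).counit.app E'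
  obtain ⟨U, hUqc, hUuniv⟩ := FlatIsoLocus.exists_open_isIso_pullback (f := fW) c
    (isQCoh_and_isFP_of_isFinLocFree _ (isFinLocFree_pullback fW P hPlf)).2 (isFP_pullback gW E hfp)
    (TildePerf.isFlatOver_of_isFinLocFree fW (isFinLocFree_pullback gW E hE))
  haveI := hUqc
  haveI := hw; haveI := hw'; haveI := hw''
  refine ⟨U, U.ι ≫ w, inferInstance, inferInstance, inferInstance, ?_⟩
  have hHF : HF f E (U.ι ≫ w) := by
    have hiso := (hUuniv _ U.ι).2 (by rw [Scheme.Opens.range_ι])
    haveI : Coh.IsQCoh ((Scheme.Modules.pullback U.ι).obj P) := isQCoh_pullback U.ι P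
    let q := pullback.fst fW U.ι
    let fU := pullback.snd fW U.ι
    haveI : IsIso ((Scheme.Modules.pullback q).map c) := hiso
    have h1 : HasFrames fU ((Scheme.Modules.pullback (q ≫ gW)).obj E) :=
      (hasFrames_pullback fU (isFinLocFree_pullback U.ι P hPlf)).of_iso
        ((Scheme.Modules.pullbackComp fU U.ι ≪≫ Scheme.Modules.pullbackCongr pullback.condition.symm ≪≫
          (Scheme.Modules.pullbackComp q fW).symm).app P ≪≫
          asIso ((Scheme.Modules.pullback q).map c) ≪≫ (Scheme.Modules.pullbackComp q gW).app E)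
    refine h1.transfer (v := 𝟙 _) (pullback.lift
      (pullback.lift (pullback.fst f (U.ι ≫ w)) (pullback.snd f (U.ι ≫ w) ≫ U.ι)
        (by rw [pullback.condition, Category.assoc])) (pullback.snd f (U.ι ≫ w))
      (pullback.lift_snd _ _ _)) ?_ ?_
    · rw [← Category.assoc, pullback.lift_fst, pullback.lift_fst]
    · rw [pullback.lift_snd, Category.comp_id]
  refine ⟨hHF, fun z x hx => ?_, fun T u hu hrank => ?_⟩
  · obtain ⟨p, hp, hp'⟩ := Scheme.Pullback.exists_preimage_pullback (f := f) (g := U.ι ≫ w) x z hx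
    haveI := isQCoh_pullback (pullback.fst f (U.ι ≫ w)) E
    haveI : Coh.IsQCoh ((Scheme.Modules.pushforward (pullback.snd f (U.ι ≫ w))).obj
        ((Scheme.Modules.pullback (pullback.fst f (U.ι ≫ w))).obj E)) := QCohLib.isQCoh_pushforward _ _
    obtain ⟨O, m, σ, hO, hσ, hσ'⟩ := HasFrames.exists_push_frame (hf.of_isPullback (IsPullback.of_hasPullback f (U.ι ≫ w))) hHF z
    obtain ⟨hn, -⟩ := (goal _ (U.ι ≫ w)).1 ⟨U.ι, rfl⟩
    obtain ⟨V, hzV, ⟨i⟩⟩ := hn z
    obtain rfl : m = n := freeAt_unique _ (freeAt_of_frame hσ' hO) (freeAt_of_restrict_iso _ i hzV)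
    rw [← hp]
    exact freeAt_eq_of_frame hE _ hσ (show pullback.snd f (U.ι ≫ w) p ∈ O by rw [hp']; exact hO)
  · haveI := isQCoh_pullback (pullback.fst f u) E
    have hfu := hf.of_isPullback (IsPullback.of_hasPullback f u)
    have hfr : ∀ t, FreeAt n ((Scheme.Modules.pushforward (pullback.snd f u)).obj
        ((Scheme.Modules.pullback (pullback.fst f u)).obj E)) t := fun t => by
      obtain ⟨O, m, σ, hO, hσ, hσ'⟩ := HasFrames.exists_push_frame hfu hu t
      obtain ⟨z, hz⟩ := (pullback.snd f u).surjective t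
      obtain rfl : m = n := freeAt_unique E (freeAt_eq_of_frame hE u hσ (show pullback.snd f u z ∈ O by rw [hz]; exact hO))
        (hrank _ ⟨t, by rw [← hz, ← Scheme.Hom.comp_apply, ← pullback.condition, Scheme.Hom.comp_apply]⟩)
      exact freeAt_of_frame hσ' hO
    have hQ := HasFrames.isFinLocFree_push hfu hu
    haveI := (isQCoh_and_isFP_of_isFinLocFree _ hQ).1
    obtain ⟨t, ht⟩ := (goal T u).2 ⟨(isFinLocFreeOfRank_iff_freeAt _
      (isQCoh_and_isFP_of_isFinLocFree _ hQ).2 n).2 hfr,
      fun X'' T' v' f'' u' h => HasFrames.isIso_bc0 hfu hu h⟩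
    let q := pullback.fst fW t
    let fT := pullback.snd fW t
    let gT := q ≫ gW
    have hT : HasFrames fT ((Scheme.Modules.pullback q).obj E') :=
      (hu.transfer (fT' := fT) (gT' := gT) (v := 𝟙 T)
        (pullback.lift gT fT (by
          rw [Category.assoc, show gW ≫ f = fW ≫ w from pullback.condition, ← Category.assoc,
            show q ≫ fW = fT ≫ t from pullback.condition, Category.assoc, ht]))
        (pullback.lift_fst _ _ _) (by rw [pullback.lift_snd, Category.comp_id])).of_iso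
        ((Scheme.Modules.pullbackComp q gW).app E).symm
    haveI : Coh.IsQCoh ((Scheme.Modules.pullback q).obj E') := isQCoh_pullback q E'
    haveI : IsIso (CohBC.bc0 fW t fT q pullback.condition E') :=
      hbcW q fT t (IsPullback.of_hasPullback fW t)
    haveI := HasFrames.isIso_counit ((hf.of_isPullback (IsPullback.of_hasPullback f w)).of_isPullback (IsPullback.of_hasPullback fW t)) hT
    let Q := (Scheme.Modules.pushforward fT).obj ((Scheme.Modules.pullback q).obj E')
    haveI : Coh.IsQCoh Q := QCohLib.isQCoh_pushforward _ fT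
    have hiso : IsIso ((Scheme.Modules.pullback q).map c) := by
      refine (isIso_iff_stalk _).2 fun z => ?_
      obtain ⟨O, m, σ, hO, hσ⟩ := exists_frame_at hPlf (fW (q z))
      have hz : fT z ∈ t ⁻¹ᵁ O := by
        show t (fT z) ∈ O
        rw [← Scheme.Hom.comp_apply, ← show q ≫ fW = fT ≫ t from pullback.condition, Scheme.Hom.comp_apply]
        exact hO
      have le := CohCmp.sqLE fW t fT q pullback.condition O
      have hτ : IsFrame (E := Q) (t ⁻¹ᵁ O) fun i => pullMap q E' le (σ i) := by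
        have h2 := SplitP1Lib.IsFrame.of_iso (isFrame_pullMap t hσ (U' := t ⁻¹ᵁ O) le_rfl)
          (asIso (CohBC.bc0 fW t fT q pullback.condition E'))
        exact isFrame_congr h2 fun i => GenBCLib.bc0_pullMap pullback.condition E' le_rfl le (σ i)
      have hfr' : IsFrame (E := (Scheme.Modules.pullback q).obj E') (fT ⁻¹ᵁ (t ⁻¹ᵁ O))
          fun i => pullMap q E' le (σ i) := by
        have h2 := SplitP1Lib.IsFrame.of_iso (isFrame_pullMap fT hτ (U' := fT ⁻¹ᵁ (t ⁻¹ᵁ O)) le_rfl)
          (asIso ((Scheme.Modules.pullbackPushforwardAdjunction fT).counit.app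
            ((Scheme.Modules.pullback q).obj E')))
        exact isFrame_congr (E := (Scheme.Modules.pullback q).obj E') h2 fun i =>
          (PicTrivLib.counit_pullMap fT _ le_rfl).trans (by simp)
      refine bijective_stalkLin_of_frame _
        (isFrame_pullMap q (isFrame_pullMap fW hσ (U' := fW ⁻¹ᵁ O) le_rfl) le) hfr' (fun i => ?_) hz
      refine (pullMap_natural q c le _).trans ?_
      refine congrArg (pullMap q E' le) ((PicTrivLib.counit_pullMap fW (σ i) le_rfl).trans ?_)
      simp
    have hr := (hUuniv T t).1 hiso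
    refine ⟨IsOpenImmersion.lift U.ι t (by rwa [Scheme.Opens.range_ι]), ?_⟩
    rw [← Category.assoc, IsOpenImmersion.lift_fac, ht]

end Groth.Agent.SeesawVB
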